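import Mathlib.AlgebraicGeometry.Morphisms.ClosedImmersion
import Mathlib.AlgebraicGeometry.Morphisms.Integral
import Mathlib.AlgebraicGeometry.Morphisms.Separated

universe u
open CategoryTheory CategoryTheory.Limits AlgebraicGeometry

namespace Groth.Agent.RedSepLib

variable {X Y Z S : Scheme.{u}}

/-- An ideal sheaf whose support contains the image of a reduced scheme is killed by the morphism. -/
lemma le_ker_of_range_subset [IsReduced X] (f : X ⟶ Y) (I : Y.IdealSheafData)
    (h : Set.range f ⊆ I.support) : I ≤ f.ker := by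
  refine Scheme.IdealSheafData.le_ofIdeals_iff.mpr fun U s hs => ?_
  show f.app U s = 0
  rw [← basicOpen_eq_bot_iff, ← Scheme.preimage_basicOpen]
  refine TopologicalSpace.Opens.ext (Set.eq_empty_iff_forall_notMem.mpr fun x hx => ?_)
  have hxU : f x ∈ (U : Y.Opens) := Y.basicOpen_le s hx
  have h2 := (Scheme.IdealSheafData.mem_support_iff_of_mem hxU).mp (h ⟨x, rfl⟩)
  exact (Scheme.mem_zeroLocus_iff _ _ _).mp h2 s hs hx

/-- A morphism from a reduced scheme factors through every closed subscheme containing its image. -/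
lemma exists_lift_of_isReduced [IsReduced X] (f : X ⟶ Y) (j : Z ⟶ Y) [IsClosedImmersion j]
    (h : Set.range f ⊆ Set.range j) : ∃ g : X ⟶ Z, g ≫ j = f := by
  refine ⟨IsClosedImmersion.lift j f (le_ker_of_range_subset f _ ?_), IsClosedImmersion.lift_fac _ _ _⟩
  rw [j.support_ker]
  exact h.trans subset_closure

lemma isReduced_subscheme_nilradical (X : Scheme.{u}) : IsReduced X.nilradical.subscheme := by
  apply +allowSynthFailures @IsReduced.of_openCover
    (𝒰 := X.nilradical.subschemeCover.openCover)
  intro U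
  have : _root_.IsReduced (Γ(X, U.1) ⧸ X.nilradical.ideal U) := by
    rw [← Ideal.isRadical_iff_quotient_reduced]
    exact Ideal.radical_isRadical _
  exact inferInstanceAs (IsReduced (Spec (CommRingCat.of (Γ(X, U.1) ⧸ X.nilradical.ideal U))))

lemma isReduced_subscheme_iff (X : Scheme.{u}) (I : X.IdealSheafData) (hI : I.support = ⊤) :
    IsReduced I.subscheme ↔ I = X.nilradical := by
  refine ⟨fun _ => le_antisymm ?_ ?_, fun h => h ▸ isReduced_subscheme_nilradical X⟩
  · rw [← Scheme.IdealSheafData.vanishingIdeal_top, ← Scheme.IdealSheafData.le_support_iff_le_vanishingIdeal,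
      hI]
  · calc X.nilradical ≤ I.subschemeι.ker :=
          le_ker_of_range_subset _ _ (by simp)
      _ = I := I.ker_subschemeι

/-- An injective morphism with a section is integral. -/
lemma isIntegralHom_of_section_of_injective (π : X ⟶ S) (ε : S ⟶ X) (hε : ε ≫ π = 𝟙 S)
    (hinj : Function.Injective π.base) : IsIntegralHom π := by
  have hπ : ∀ s, π (ε s) = s := fun s => by rw [← Scheme.Hom.comp_apply, hε]; rfl
  have hsurj : Surjective ε := ⟨fun x => ⟨π x, hinj (hπ (π x))⟩⟩
  have key : ∀ {X' S' : Scheme.{u}} (p : X' ⟶ S') (e : S' ⟶ X'), e ≫ p = 𝟙 S' → Surjective e →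
      IsHomeomorph p := by
    intro X' S' p e he hs
    have hp : ∀ s, p (e s) = s := fun s => by rw [← Scheme.Hom.comp_apply, he]; rfl
    have he' : ∀ x, e (p x) = x := fun x => by
      obtain ⟨s, rfl⟩ := hs.surj x
      rw [hp]
    exact Homeomorph.isHomeomorph ⟨⟨p, e, he', hp⟩, p.continuous, e.continuous⟩
  have hhom := key π ε hε hsurj
  refine IsIntegralHom.iff_universallyClosed_and_isAffineHom.mpr
    ⟨⟨MorphismProperty.universally_mk' _ _ fun {T} g _ => ?_⟩,
      isAffineHom_of_isInducing _ hhom.isEmbedding.isInducing ?_⟩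
  · let e : T ⟶ pullback g π := pullback.lift (𝟙 T) (g ≫ ε) (by simp [hε])
    have hcl : Surjective e := ⟨fun z => ?_⟩
    · exact (key (pullback.fst g π) e (pullback.lift_fst _ _ _) hcl).isClosedMap
    · have hp : IsPullback g e ε (pullback.snd g π) := by
        refine IsPullback.of_bot ?_ (pullback.lift_snd _ _ _).symm (IsPullback.of_hasPullback g π).flip
        rw [hε, pullback.lift_fst]
        exact IsPullback.of_id_snd
      exact (MorphismProperty.of_isPullback hp hsurj : Surjective e).surj z
  · rw [hhom.surjective.range_eq]; exact isClosed_univ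

lemma section_eq_of_apply_genericPoint_eq [IsIntegral S] (p : X ⟶ S) [IsSeparated p] (f g : S ⟶ X)
    (hf : f ≫ p = 𝟙 S) (hg : g ≫ p = 𝟙 S) (h : f (genericPoint S) = g (genericPoint S)) : f = g := by
  have hd : IsDominant (S.fromSpecResidueField (genericPoint S)) := ⟨by
    rw [denseRange_iff_closure_range, Scheme.range_fromSpecResidueField, (genericPoint_spec S).def]⟩
  refine ext_of_isDominant_of_isSeparated p (hf.trans hg.symm)
    (S.fromSpecResidueField (genericPoint S)) ?_
  set η := genericPoint S
  have key : ∀ u : S ⟶ X, u ≫ p = 𝟙 S → ∀ x, u η = x → ∀ hx : p x = η,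
      ∃ φ : X.residueField x ⟶ S.residueField η, IsIso φ ∧
        S.fromSpecResidueField η ≫ u = Spec.map φ ≫ X.fromSpecResidueField x ∧
        p.residueFieldMap x ≫ φ = (S.residueFieldCongr hx).hom := by
    intro u hu x hux hx
    subst hux
    have h1 : p.residueFieldMap (u η) ≫ u.residueFieldMap η = (S.residueFieldCongr hx).hom := by
      apply Spec.map_injective
      rw [← cancel_mono (S.fromSpecResidueField (p (u η))), Spec.map_comp, Category.assoc,
        Scheme.Hom.SpecMap_residueFieldMap_fromSpecResidueField,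
        Scheme.Hom.SpecMap_residueFieldMap_fromSpecResidueField_assoc, hu, Category.comp_id]
      exact (Scheme.residueFieldCongr_fromSpecResidueField hx).symm
    refine ⟨_, ?_, (u.SpecMap_residueFieldMap_fromSpecResidueField η).symm, h1⟩
    rw [ConcreteCategory.isIso_iff_bijective]
    refine ⟨(u.residueFieldMap η).hom.injective, fun a => ?_⟩
    refine ⟨p.residueFieldMap (u η) ((S.residueFieldCongr hx).inv a), ?_⟩
    rw [← CommRingCat.comp_apply, h1, ← CommRingCat.comp_apply, Iso.inv_hom_id]
    rfl
  have hx : p (f η) = η := by rw [← Scheme.Hom.comp_apply, hf]; rfl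
  obtain ⟨φ, hφ, e₁, c₁⟩ := key f hf _ rfl hx
  obtain ⟨ψ, hψ, e₂, c₂⟩ := key g hg _ h.symm hx
  have : IsIso (p.residueFieldMap (f η)) := by
    have : IsIso (p.residueFieldMap (f η) ≫ φ) := c₁ ▸ inferInstance
    exact IsIso.of_isIso_comp_right _ φ
  rw [e₁, e₂, (cancel_epi (p.residueFieldMap (f η))).mp (c₁.trans c₂.symm)]

end Groth.Agent.RedSepLib
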